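import Groth.Prelude.Def_BigSite
import Mathlib.Algebra.DirectSum.Basic
import Mathlib.Algebra.Category.Grp.Abelian
import Mathlib.CategoryTheory.Preadditive.Injective.Preserves
import Mathlib.CategoryTheory.Preadditive.AdditiveFunctor
import Mathlib.Algebra.Homology.ShortComplex.ExactFunctor

/-!
# Extension by zero on abelian sheaves of big sites

For `f : T ⟶ S` the presheaf `U ↦ ⊕_{φ : U → T over S} P(U/T)` is left adjoint to restriction and
preserves monomorphisms, so `pullBig` preserves injective objects.
-/

universe w v u

open CategoryTheory CategoryTheory.Limits Opposite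

namespace Groth.Agent.BigShriek

section Generic

open scoped DirectSum

variable {C : Type u} [Category.{v} C] {S T : C} (f : T ⟶ S)

/-- Lifts of `U → S` through `f`. -/
def Lift (U : Over S) : Type v := { φ : U.left ⟶ T // φ ≫ f = U.hom }

variable {f}

/-- Restriction of lifts. -/
def Lift.res {U V : Over S} (g : V ⟶ U) (φ : Lift f U) : Lift f V :=
  ⟨g.left ≫ φ.1, by rw [Category.assoc, φ.2, Over.w g]⟩

variable (P : (Over T)ᵒᵖ ⥤ AddCommGrpCat.{max v w})

/-- The summand of a lift. -/
abbrev Val (U : Over S) (φ : Lift f U) : Type (max v w) := P.obj (op (Over.mk φ.1))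

variable {P}

theorem map_map_eq {B : C} {G : (Over B)ᵒᵖ ⥤ AddCommGrpCat.{max v w}} {U V W : Over B}
    (h : W ⟶ V) (g : V ⟶ U) (k : W ⟶ U) (e : h.left ≫ g.left = k.left) (x : G.obj (op U)) :
    G.map h.op (G.map g.op x) = G.map k.op x := by
  obtain rfl : h ≫ g = k := Over.OverMorphism.ext e
  exact (CategoryTheory.congr_fun (G.map_comp g.op h.op) x).symm

theorem of_map_eq {U : Over S} {φ₁ φ₂ : Lift f U} [DecidableEq (Lift f U)] {W : Over T}
    (a : Over.mk φ₁.1 ⟶ W) (b : Over.mk φ₂.1 ⟶ W) (e : a.left = b.left) (x : P.obj (op W)) :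
    DirectSum.of (Val P U) φ₁ (P.map a.op x) = DirectSum.of (Val P U) φ₂ (P.map b.op x) := by
  obtain rfl : φ₁ = φ₂ := by
    refine Subtype.ext ?_
    have h₁ := Over.w a
    have h₂ := Over.w b
    rw [e] at h₁
    exact h₁.symm.trans h₂
  rw [Over.OverMorphism.ext e]

theorem of_map_eq_self {U : Over S} {φ₁ φ₂ : Lift f U} [DecidableEq (Lift f U)]
    (a : Over.mk φ₁.1 ⟶ Over.mk φ₂.1) (e : a.left = 𝟙 U.left) (x : Val P U φ₂) :
    DirectSum.of (Val P U) φ₁ (P.map a.op x) = DirectSum.of (Val P U) φ₂ x := by
  refine (of_map_eq a (𝟙 _) e x).trans ?_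
  simp

variable (P)

open scoped Classical in
/-- Transition maps of the extension by zero. -/
noncomputable def resHom {U V : Over S} (g : V ⟶ U) :
    (⨁ φ : Lift f U, Val P U φ) →+ ⨁ φ : Lift f V, Val P V φ :=
  DirectSum.toAddMonoid fun φ => (DirectSum.of (Val P V) (φ.res g)).comp
    (P.map (Over.homMk g.left rfl : Over.mk (φ.res g).1 ⟶ Over.mk φ.1).op).hom

open scoped Classical in
theorem resHom_of {U V : Over S} (g : V ⟶ U) (φ : Lift f U) (x : Val P U φ) :
    resHom P g (DirectSum.of (Val P U) φ x) = DirectSum.of (Val P V) (φ.res g)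
      (P.map (Over.homMk g.left rfl : Over.mk (φ.res g).1 ⟶ Over.mk φ.1).op x) :=
  DirectSum.toAddMonoid_of _ _ _

variable (f)

open scoped Classical in
/-- Extension by zero of a presheaf. -/
noncomputable def extObj : (Over S)ᵒᵖ ⥤ AddCommGrpCat.{max v w} where
  obj U := AddCommGrpCat.of (⨁ φ : Lift f U.unop, Val P U.unop φ)
  map g := AddCommGrpCat.ofHom (resHom P g.unop)
  map_id U := by
    refine AddCommGrpCat.hom_ext (DirectSum.addHom_ext fun φ x => ?_)
    change resHom P (𝟙 U.unop) (DirectSum.of (Val P U.unop) φ x) = DirectSum.of (Val P U.unop) φ x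
    rw [resHom_of]
    exact of_map_eq_self _ (by simp) x
  map_comp {U V W} g g' := by
    refine AddCommGrpCat.hom_ext (DirectSum.addHom_ext fun φ x => ?_)
    change resHom P (g'.unop ≫ g.unop) (DirectSum.of (Val P U.unop) φ x) =
      resHom P g'.unop (resHom P g.unop (DirectSum.of (Val P U.unop) φ x))
    rw [resHom_of, resHom_of, resHom_of]
    let k : Over.mk ((φ.res g.unop).res g'.unop).1 ⟶ Over.mk φ.1 :=
      Over.homMk (g'.unop.left ≫ g.unop.left) (by simp [Lift.res])
    refine Eq.trans ?_ (congrArg _ (map_map_eq _ _ k rfl x)).symm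
    exact of_map_eq (Over.homMk (g'.unop ≫ g.unop).left rfl :
      Over.mk (φ.res (g'.unop ≫ g.unop)).1 ⟶ Over.mk φ.1) k rfl x

/-- Extension by zero. -/
noncomputable def ext : ((Over T)ᵒᵖ ⥤ AddCommGrpCat.{max v w}) ⥤ ((Over S)ᵒᵖ ⥤ AddCommGrpCat.{max v w}) where
  obj P := extObj f P
  map {P Q} τ :=
    { app U := AddCommGrpCat.ofHom (DirectSum.map fun φ => (τ.app (op (Over.mk φ.1))).hom)
      naturality U V g := by
        classical
        refine AddCommGrpCat.hom_ext (DirectSum.addHom_ext fun φ x => ?_)
        change DirectSum.map _ (resHom P g.unop (DirectSum.of (Val P U.unop) φ x)) =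
          resHom Q g.unop (DirectSum.map _ (DirectSum.of (Val P U.unop) φ x))
        rw [resHom_of, DirectSum.map_of, DirectSum.map_of, resHom_of]
        congr 1
        exact CategoryTheory.congr_fun (τ.naturality _) x }
  map_id P := by
    classical
    refine NatTrans.ext (funext fun U => AddCommGrpCat.hom_ext (DirectSum.addHom_ext fun φ x => ?_))
    change DirectSum.map _ (DirectSum.of (Val P U.unop) φ x) = _
    rw [DirectSum.map_of]
    rfl
  map_comp {P Q R} τ τ' := by
    classical
    refine NatTrans.ext (funext fun U => AddCommGrpCat.hom_ext (DirectSum.addHom_ext fun φ x => ?_))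
    change DirectSum.map _ (DirectSum.of (Val P U.unop) φ x) =
      DirectSum.map _ (DirectSum.map _ (DirectSum.of (Val P U.unop) φ x))
    rw [DirectSum.map_of, DirectSum.map_of, DirectSum.map_of]
    rfl

theorem mono_ext_map {P Q : (Over T)ᵒᵖ ⥤ AddCommGrpCat.{max v w}} (τ : P ⟶ Q) [Mono τ] :
    Mono ((ext.{w} f).map τ) := by
  refine NatTrans.mono_iff_mono_app _ |>.2 fun U => ?_
  refine (AddCommGrpCat.mono_iff_injective _).2 ?_
  exact (DirectSum.map_injective _).2 fun φ =>
    (AddCommGrpCat.mono_iff_injective _).1 ((NatTrans.mono_iff_mono_app τ).1 inferInstance _)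

variable {f}

/-- The canonical lift of an object over `T`. -/
def canLift (W : Over T) : Lift f ((Over.map f).obj W) := ⟨W.hom, rfl⟩

open scoped Classical in
/-- The components of the adjoint transpose. -/
noncomputable def descHom {G : (Over S)ᵒᵖ ⥤ AddCommGrpCat.{max v w}} {P : (Over T)ᵒᵖ ⥤ AddCommGrpCat.{max v w}}
    (t : P ⟶ (Over.map f).op ⋙ G) (U : (Over S)ᵒᵖ) : (⨁ φ : Lift f U.unop, Val P U.unop φ) →+ G.obj U :=
  DirectSum.toAddMonoid fun φ : Lift f U.unop =>
    ((t.app (op (Over.mk φ.1))) ≫ G.map (Over.homMk (𝟙 U.unop.left) (by simp [φ.2]) :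
      U.unop ⟶ (Over.map f).obj (Over.mk φ.1)).op).hom

open scoped Classical in
/-- The adjunction. -/
noncomputable def extAdj : ext.{w} f ⊣ (Functor.whiskeringLeft _ _ AddCommGrpCat.{max v w}).obj (Over.map f).op :=
  Adjunction.mkOfHomEquiv
    { homEquiv := fun P G =>
        { toFun := fun ψ =>
            { app W := P.map (Over.homMk (𝟙 _) (by simp) : Over.mk W.unop.hom ⟶ W.unop).op ≫
                AddCommGrpCat.ofHom (DirectSum.of (Val P ((Over.map f).obj W.unop)) (canLift W.unop)) ≫
                  ψ.app (op ((Over.map f).obj W.unop))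
              naturality W W' g := by
                refine AddCommGrpCat.hom_ext (AddMonoidHom.ext fun x => ?_)
                change ψ.app _ (DirectSum.of _ (canLift W'.unop) (P.map _ (P.map g x))) =
                  G.map ((Over.map f).map g.unop).op (ψ.app _ (DirectSum.of _ (canLift W.unop) (P.map _ x)))
                refine Eq.trans ?_ (CategoryTheory.congr_fun (ψ.naturality ((Over.map f).map g.unop).op) _)
                refine congrArg (ψ.app _) ?_
                refine Eq.trans ?_ (resHom_of P _ _ _).symm
                let k₁ : Over.mk (canLift (f := f) W'.unop).1 ⟶ W.unop := Over.homMk g.unop.left (Over.w g.unop)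
                let k₂ : Over.mk ((canLift (f := f) W.unop).res ((Over.map f).map g.unop)).1 ⟶ W.unop :=
                  Over.homMk g.unop.left rfl
                refine Eq.trans (congrArg _ (map_map_eq _ g.unop k₁ (Category.id_comp _) x)) ?_
                refine Eq.trans ?_ (congrArg _ (map_map_eq _ _ k₂ (Category.comp_id _) x)).symm
                exact of_map_eq k₁ k₂ rfl x }
          invFun := fun t =>
            { app U := AddCommGrpCat.ofHom (descHom t U)
              naturality U V g := by
                refine AddCommGrpCat.hom_ext (DirectSum.addHom_ext fun φ x => ?_)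
                change descHom t V (resHom P g.unop (DirectSum.of (Val P U.unop) φ x)) =
                  G.map g (descHom t U (DirectSum.of (Val P U.unop) φ x))
                rw [resHom_of, descHom, descHom, DirectSum.toAddMonoid_of, DirectSum.toAddMonoid_of]
                change G.map _ (t.app _ (P.map _ x)) = G.map g (G.map _ (t.app _ x))
                refine (congrArg _ (CategoryTheory.congr_fun (t.naturality (Over.homMk g.unop.left rfl :
                    Over.mk (φ.res g.unop).1 ⟶ Over.mk φ.1).op) x)).trans ?_
                change G.map _ (G.map ((Over.map f).map _).op (t.app _ x)) = G.map g.unop.op (G.map _ (t.app _ x))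
                let k : V.unop ⟶ (Over.map f).obj (Over.mk φ.1) := Over.homMk g.unop.left (by
                  have h := Over.w g.unop
                  simp [φ.2])
                exact (map_map_eq _ _ k (Category.id_comp _) _).trans (map_map_eq _ _ k (Category.comp_id _) _).symm }
          left_inv := fun ψ => by
            refine NatTrans.ext (funext fun U => AddCommGrpCat.hom_ext (DirectSum.addHom_ext fun φ x => ?_))
            change DirectSum.toAddMonoid _ (DirectSum.of (Val P U.unop) φ x) = ψ.app U (DirectSum.of (Val P U.unop) φ x)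
            rw [DirectSum.toAddMonoid_of]
            change G.map _ (ψ.app _ (DirectSum.of _ _ (P.map _ x))) = _
            refine (CategoryTheory.congr_fun (ψ.naturality _) _).symm.trans (congrArg (ψ.app U) ?_)
            refine (resHom_of P _ _ _).trans ?_
            let k : Over.mk (Lift.res (Over.homMk (𝟙 U.unop.left) (by simp [φ.2]) :
                U.unop ⟶ (Over.map f).obj (Over.mk φ.1)) (canLift (f := f) (Over.mk φ.1))).1 ⟶ Over.mk φ.1 :=
              Over.homMk (𝟙 U.unop.left) (by simp [Lift.res, canLift])
            refine Eq.trans (congrArg _ (map_map_eq _ _ k (by simp [k]) x)) ?_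
            exact of_map_eq_self k (by simp [k]) x
          right_inv := fun t => by
            refine NatTrans.ext (funext fun W => AddCommGrpCat.hom_ext (AddMonoidHom.ext fun x => ?_))
            change descHom t _ (DirectSum.of (Val P ((Over.map f).obj W.unop)) (canLift W.unop) (P.map _ x)) = _
            rw [descHom, DirectSum.toAddMonoid_of]
            change G.map _ (t.app _ (P.map _ x)) = _
            refine (congrArg _ (CategoryTheory.congr_fun (t.naturality _) x)).trans ?_
            change G.map _ (G.map ((Over.map f).map _).op (t.app _ x)) = _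
            refine (map_map_eq _ _ (𝟙 _) (by simp; rfl) _).trans ?_
            rw [op_id, G.map_id]
            rfl }
      homEquiv_naturality_left_symm := fun {P P' G} τ t => by
        refine NatTrans.ext (funext fun U => AddCommGrpCat.hom_ext (DirectSum.addHom_ext fun φ x => ?_))
        change descHom _ U (DirectSum.of (Val P U.unop) φ x) =
          descHom t U (DirectSum.map (fun φ : Lift f U.unop => (τ.app (op (Over.mk φ.1))).hom)
            (DirectSum.of (Val P U.unop) φ x))
        rw [DirectSum.map_of, descHom, descHom, DirectSum.toAddMonoid_of, DirectSum.toAddMonoid_of]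
        rfl
      homEquiv_naturality_right := fun ψ h => rfl }

end Generic

end Groth.Agent.BigShriek

namespace Groth.Agent.BigShriek

open AlgebraicGeometry

section Sheaf

variable (K : Precoverage Scheme.{u}) {S T : Scheme.{u}} (f : T ⟶ S)

/-- Extension by zero of abelian sheaves on big sites. -/
noncomputable def shriek : BigSite.Ab K T ⥤ BigSite.Ab K S :=
  sheafToPresheaf _ _ ⋙ ext.{u+1} f ⋙ presheafToSheaf (QuotSh.J K S) AddCommGrpCat.{u+1}

/-- Extension by zero is left adjoint to restriction. -/
noncomputable def shriekAdj : shriek K f ⊣ BigSite.pullBig K f AddCommGrpCat.{u+1} :=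
  ((extAdj.{u+1} (f := f)).comp (sheafificationAdjunction (QuotSh.J K S) AddCommGrpCat.{u+1})).restrictFullyFaithful
    (fullyFaithfulSheafToPresheaf _ _) (Functor.FullyFaithful.id _) (Iso.refl _) (Iso.refl _)

instance : (shriek K f).PreservesMonomorphisms where
  preserves {X Y} g hg := by
    have h1 : Mono ((sheafToPresheaf _ _).map g) := inferInstance
    have h2 : Mono ((ext.{u+1} f).map ((sheafToPresheaf _ _).map g)) := mono_ext_map f _
    exact Functor.map_mono (presheafToSheaf (QuotSh.J K S) AddCommGrpCat.{u+1}) _

/-- Restriction along a morphism of schemes preserves injective sheaves. -/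
theorem preservesInjective_pullBig :
    (BigSite.pullBig K f AddCommGrpCat.{u+1}).PreservesInjectiveObjects :=
  Functor.preservesInjectiveObjects_of_adjunction_of_preservesMonomorphisms (shriekAdj K f)

/-- The chosen left adjoint of restriction preserves finite limits. -/
theorem preservesFiniteLimits_shriekAb : PreservesFiniteLimits (BigSite.shriekAb K f) := by
  let e : shriek K f ≅ BigSite.shriekAb K f := (shriekAdj K f).leftAdjointUniq (BigSite.shriekAbAdj K f)
  let F := BigSite.shriekAb K f
  have : F.PreservesMonomorphisms := Functor.PreservesMonomorphisms.of_iso e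
  have hl : PreservesColimitsOfSize.{0, 0} F := (BigSite.shriekAbAdj K f).leftAdjoint_preservesColimits
  have : PreservesFiniteColimits F := ⟨fun J _ _ => inferInstance⟩
  have : F.Additive := (BigSite.shriekAbAdj K f).left_adjoint_additive
  rw [Functor.preservesFiniteLimits_iff_forall_exact_map_and_mono]
  intro X hX
  have : Mono X.f := hX.mono_f
  exact ⟨((Functor.preservesFiniteColimits_iff_forall_exact_map_and_epi F).1 inferInstance X hX).1, inferInstance⟩

end Sheaf

end Groth.Agent.BigShriek
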